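import Groth.Agent.HullFinLib.Basic
import Groth.Agent.LiaisonLib.Basic
import Groth.Agent.CMCat.Local
import Groth.Prelude.Def_W4c5grrsingularflatDSeq
import Mathlib

/-!
# Primes of a Cohen–Macaulay local ring generated by d-sequences
-/

set_option autoImplicit false
set_option linter.style.haveILetI false

universe u

open IsLocalRing

namespace Groth.Agent.DSeqLib

variable {T : Type u} [CommRing T]

/-- An element of a coset avoiding finitely many incomparable primes. -/
theorem exists_add_notMem_aux (a : T) (D : Ideal T) (M : Finset (Ideal T))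
    (hp : ∀ Q ∈ M, Q.IsPrime) (hmax : ∀ Q ∈ M, ∀ Q' ∈ M, Q ≤ Q' → Q = Q')
    (hD : ∀ Q ∈ M, ¬ D ≤ Q) : ∃ z ∈ D, ∀ Q ∈ M, a + z ∉ Q := by
  classical
  let E : Ideal T := D * ∏ Q ∈ M.filter (fun Q => a ∉ Q), Q
  let P : Finset (Ideal T) := M.filter (fun Q => a ∈ Q)
  have hE : ∀ Q ∈ P, ¬ E ≤ Q := by
    intro Q hQ hle
    obtain ⟨hQM, haQ⟩ := Finset.mem_filter.1 hQ
    rcases (hp Q hQM).mul_le.1 hle with h | h
    · exact hD Q hQM h
    · obtain ⟨Q', hQ', hle'⟩ := (hp Q hQM).prod_le.1 h
      obtain ⟨hQ'M, haQ'⟩ := Finset.mem_filter.1 hQ'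
      exact haQ' (hmax Q' hQ'M Q hQM hle' ▸ haQ)
  obtain ⟨z, hzE, hz⟩ := HullFinLib.exists_notMem_of_finite E {Q | Q ∈ P} P.finite_toSet
    (fun Q hQ => hp Q (Finset.mem_filter.1 hQ).1) hE
  have hED : E ≤ D := show D * (∏ Q ∈ M.filter (fun Q => a ∉ Q), Q) ≤ D from Ideal.mul_le_left
  refine ⟨z, hED hzE, fun Q hQ hmem => ?_⟩
  by_cases haQ : a ∈ Q
  · exact hz Q (Finset.mem_filter.2 ⟨hQ, haQ⟩) ((Ideal.add_mem_iff_right Q haQ).1 hmem)
  · have h2 : (∏ Q ∈ M.filter (fun Q => a ∉ Q), Q) ≤ Q :=
      le_trans Ideal.prod_le_inf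
        (Finset.inf_le (f := fun Q : Ideal T => Q) (Finset.mem_filter.2 ⟨hQ, haQ⟩))
    have h1 : E ≤ Q := le_trans
      (show D * (∏ Q ∈ M.filter (fun Q => a ∉ Q), Q) ≤ ∏ Q ∈ M.filter (fun Q => a ∉ Q), Q from
        Ideal.mul_le_right) h2
    exact haQ ((Ideal.add_mem_iff_left Q (h1 hzE)).1 hmem)

/-- An element of a coset avoiding finitely many primes. -/
theorem exists_add_notMem (a : T) (D : Ideal T) (S : Finset (Ideal T))
    (hp : ∀ Q ∈ S, Q.IsPrime) (hD : ∀ Q ∈ S, ¬ D ≤ Q) : ∃ z ∈ D, ∀ Q ∈ S, a + z ∉ Q := by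
  classical
  let M : Finset (Ideal T) := S.filter (fun Q => ∀ Q' ∈ S, Q ≤ Q' → Q' = Q)
  have hM : ∀ Q ∈ S, ∃ Q' ∈ M, Q ≤ Q' := fun Q hQ => by
    obtain ⟨Q', hle, hmax⟩ := Finset.exists_le_maximal S hQ
    exact ⟨Q', Finset.mem_filter.2 ⟨hmax.1, fun Q'' h'' h => le_antisymm (hmax.2 h'' h) h⟩, hle⟩
  obtain ⟨z, hz, hzM⟩ := exists_add_notMem_aux a D M (fun Q hQ => hp Q (Finset.mem_filter.1 hQ).1)
    (fun Q hQ Q' hQ' h => ((Finset.mem_filter.1 hQ).2 Q' (Finset.mem_filter.1 hQ').1 h).symm)
    (fun Q hQ => hD Q (Finset.mem_filter.1 hQ).1)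
  refine ⟨z, hz, fun Q hQ hmem => ?_⟩
  obtain ⟨Q', hQ', hle⟩ := hM Q hQ
  exact hzM Q' hQ' (hle hmem)

variable [LocCoh.IsCohenMacaulayLocalRing T] (p : Ideal T) [p.IsPrime]

/-- A regular sequence in given cosets of `p ^ 2`. -/
theorem exists_regular (h : ℕ) (hh : p.height = h) :
    ∀ i, i ≤ h → ∀ gs : List T, gs.length = i → (∀ g ∈ gs, g ∈ p) →
      ∃ ys : List T, ys.length = i ∧ (∀ y ∈ ys, y ∈ p) ∧
        LocCoh.IsCohenMacaulayRing (T ⧸ Ideal.ofList ys) ∧
        (∀ k (hk : k < ys.length) (hk' : k < gs.length), ys[k] - gs[k] ∈ p ^ 2) ∧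
        ∀ k (hk : k < ys.length) (a : T), a * ys[k] ∈ Ideal.ofList (ys.take k) → a ∈ Ideal.ofList (ys.take k) := by
  classical
  haveI : LocCoh.IsCohenMacaulayRing T := CMCat.isCohenMacaulayRing_of_local
  intro i
  induction i with
  | zero =>
    intro _ gs _ _
    refine ⟨[], rfl, by simp, ?_, by simp, by simp⟩
    rw [Ideal.ofList_nil]
    exact CMCat.isCohenMacaulayRing_of_ringEquiv (RingEquiv.quotientBot T).symm
  | succ i ih =>
    intro hi gs hgs hgp
    obtain ⟨ys, hlen, hyp, hcm, hcong, hreg⟩ := ih (by omega) (gs.take i) (by simp; omega)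
      (fun g hg => hgp g (List.mem_of_mem_take hg))
    let I := Ideal.ofList ys
    haveI : LocCoh.IsCohenMacaulayRing (T ⧸ I) := hcm
    have hIp : I ≤ p := Ideal.span_le.2 fun y hy => hyp y hy
    let S := (associatedPrimes.finite (T ⧸ I) (T ⧸ I)).toFinset.image (Ideal.comap (Ideal.Quotient.mk I))
    have hrank : I.spanFinrank ≤ i := by
      refine le_trans (le_of_eq ?_) ((Submodule.spanFinrank_span_le_ncard_of_finite
        (R := T) (ys.toFinset.finite_toSet)).trans ((Set.ncard_coe_finset _).le.trans (ys.toFinset_card_le.trans hlen.le)))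
      simp [I, Ideal.ofList, Ideal.span, List.coe_toFinset]
    obtain ⟨z, hz, hzQ⟩ := exists_add_notMem gs[i] (p ^ 2) S (fun Q hQ => by
        obtain ⟨P, hP, rfl⟩ := Finset.mem_image.1 hQ
        haveI := ((associatedPrimes.finite _ _).mem_toFinset.1 hP).isPrime
        exact Ideal.comap_isPrime _ P) fun Q hQ hle => by
      obtain ⟨P, hP, rfl⟩ := Finset.mem_image.1 hQ
      rw [Set.Finite.mem_toFinset] at hP
      haveI := hP.isPrime
      have hpP : p ≤ P.comap (Ideal.Quotient.mk I) := Ideal.IsPrime.le_of_pow_le hle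
      have h0 : (p.map (Ideal.Quotient.mk I)).height = 0 := le_antisymm
        ((Ideal.height_mono (Ideal.map_le_iff_le_comap.2 hpP)).trans
          (LiaisonLib.height_eq_zero_of_mem_associatedPrimes hP).le) bot_le
      have h1 := Ideal.height_le_height_add_spanFinrank_of_le (p := p) hIp
      rw [h0, zero_add, hh] at h1
      have : h ≤ I.spanFinrank := by exact_mod_cast h1
      omega
    let y := gs[i] + z
    have hy : IsSMulRegular (T ⧸ I) (Ideal.Quotient.mk I y) :=
      HullFinLib.isSMulRegular_of_notMem _ fun P hP hmem =>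
        hzQ _ (Finset.mem_image.2 ⟨P, (Set.Finite.mem_toFinset _).2 hP, rfl⟩) hmem
    have hp2 : p ^ 2 ≤ p := Ideal.pow_le_self two_ne_zero
    refine ⟨ys ++ [y], by simp [hlen], ?_, ?_, ?_, ?_⟩
    · intro w hw
      rcases List.mem_append.1 hw with hw | hw
      · exact hyp w hw
      · rw [List.mem_singleton.1 hw]
        exact p.add_mem (hgp _ (List.getElem_mem _)) (hp2 hz)
    · haveI := HullFinLib.cm_quotient_span_singleton _ hy
      refine CMCat.isCohenMacaulayRing_of_ringEquiv
        (A := (T ⧸ I) ⧸ Ideal.span {Ideal.Quotient.mk I y}) ?_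
      exact ((Ideal.quotEquivOfEq (by rw [Ideal.map_span, Set.image_singleton])).trans
        (DoubleQuot.quotQuotEquivQuotSup I (Ideal.span {y}))).trans
          (Ideal.quotEquivOfEq (by simp [I, Ideal.ofList_append, Ideal.ofList_singleton]))
    · intro k hk hk'
      simp only [List.length_append, List.length_singleton] at hk
      by_cases hki : k < ys.length
      · rw [List.getElem_append_left hki]
        have := hcong k hki (by simp; omega)
        rwa [List.getElem_take] at this
      · obtain rfl : k = i := by omega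
        rw [List.getElem_append_right (by omega)]
        simpa [y] using hz
    · intro k hk a ha
      simp only [List.length_append, List.length_singleton] at hk
      by_cases hki : k < ys.length
      · rw [List.getElem_append_left hki] at ha
        rw [List.take_append_of_le_length hki.le] at ha ⊢
        exact hreg k hki a ha
      · obtain rfl : k = i := by omega
        rw [List.getElem_append_right (by omega)] at ha
        rw [List.take_append_of_le_length hlen.ge, List.take_of_length_le hlen.le] at ha ⊢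
        simp only [hlen, Nat.sub_self, List.getElem_cons_zero] at ha
        rw [← Ideal.Quotient.eq_zero_iff_mem] at ha ⊢
        refine hy ?_
        show Ideal.Quotient.mk I y * Ideal.Quotient.mk I a = Ideal.Quotient.mk I y * 0
        rw [mul_zero, ← map_mul, mul_comm]
        exact ha

theorem exists_dSeq (hgen : (Submodule.spanFinrank p : ℕ∞) ≤ p.height + 1)
    [IsRegularLocalRing (Localization.AtPrime p)] :
    ∃ ts : List T, Ideal.ofList ts = p ∧ W4c5grrsingularflat.IsDSeq ts := by
  classical
  haveI : LocCoh.IsCohenMacaulayRing T := CMCat.isCohenMacaulayRing_of_local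
  let L := Localization.AtPrime p
  let φ := algebraMap T L
  have hm : p.map φ = maximalIdeal L := Localization.AtPrime.map_eq_maximalIdeal
  obtain ⟨h, hh⟩ : ∃ h : ℕ, p.height = h :=
    ⟨p.height.toNat, (ENat.natCast_toNat (Ideal.height_ne_top (Ideal.IsPrime.ne_top ‹_›))).symm⟩
  obtain ⟨G, hGc, hGs⟩ : ∃ G : Finset T, G.card = p.spanFinrank ∧ Ideal.span (G : Set T) = p := by
    obtain ⟨s, hs, hsp⟩ := Submodule.FG.exists_span_set_encard_eq_spanFinrank (IsNoetherian.noetherian p)
    have hfin : s.Finite := Set.finite_of_encard_eq_coe hs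
    refine ⟨hfin.toFinset, ?_, by rw [hfin.coe_toFinset]; exact hsp⟩
    rw [hfin.encard_eq_coe_toFinset_card] at hs
    exact_mod_cast hs
  have hGp : ∀ g ∈ G, g ∈ p := fun g hg => hGs ▸ Ideal.subset_span hg
  let v : G → CotangentSpace L := fun g => (maximalIdeal L).toCotangent
    ⟨φ g.1, hm ▸ Ideal.mem_map_of_mem φ (hGp g.1 g.2)⟩
  have hv : Submodule.span (ResidueField L) (Set.range v) = ⊤ := by
    rw [show Set.range v = (maximalIdeal L).toCotangent '' Set.range
      (fun g : G => (⟨φ g.1, hm ▸ Ideal.mem_map_of_mem φ (hGp g.1 g.2)⟩ : maximalIdeal L)) by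
        rw [← Set.range_comp]; rfl, CotangentSpace.span_image_eq_top_iff]
    apply Submodule.map_injective_of_injective (f := (maximalIdeal L).subtype) Subtype.val_injective
    rw [Submodule.map_top, Submodule.range_subtype, Submodule.map_span, ← Set.range_comp]
    refine Eq.trans ?_ ((congrArg (Ideal.map φ) hGs).trans hm)
    rw [Ideal.map_span]
    show Submodule.span L _ = Submodule.span L _
    congr 1
    ext w
    simp [φ]
  obtain ⟨κ, a, hainj, hasp, hli⟩ := exists_linearIndependent' (ResidueField L) v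
  haveI : Fintype κ := Fintype.ofInjective a hainj
  let b := Module.Basis.mk hli (by rw [hasp, hv])
  have hκ : Fintype.card κ = h := by
    have h1 := Module.finrank_eq_card_basis b
    rw [← spanFinrank_maximalIdeal_eq_finrank_cotangentSpace] at h1
    have h2 := IsRegularLocalRing.spanFinrank_maximalIdeal (R := L)
    rw [IsLocalization.AtPrime.ringKrullDim_eq_height p L, hh, h1] at h2
    exact_mod_cast h2
  let S : Finset T := Finset.univ.image fun j : κ => (a j).1
  have hSG : S ⊆ G := fun x hx => by
    obtain ⟨j, -, rfl⟩ := Finset.mem_image.1 hx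
    exact (a j).2
  have hSc : S.toList.length = h := by
    rw [Finset.length_toList,
      show S.card = (Finset.univ : Finset κ).card from
        Finset.card_image_of_injective _ (Subtype.val_injective.comp hainj),
      Finset.card_univ, hκ]
  have hSsp : maximalIdeal L ≤ (Ideal.span (S : Set T)).map φ := by
    have h1 : Submodule.span L (Set.range fun j : κ =>
        (⟨φ (a j).1, hm ▸ Ideal.mem_map_of_mem φ (hGp _ (a j).2)⟩ : maximalIdeal L)) = ⊤ := by
      rw [← CotangentSpace.span_image_eq_top_iff, ← Set.range_comp]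
      exact hasp.trans hv
    have h2 := congrArg (Submodule.map (maximalIdeal L).subtype) h1
    rw [Submodule.map_top, Submodule.range_subtype, Submodule.map_span, ← Set.range_comp] at h2
    rw [Ideal.map_span]
    refine h2.ge.trans (Submodule.span_mono ?_)
    rintro _ ⟨j, rfl⟩
    exact ⟨(a j).1, Finset.mem_image.2 ⟨j, Finset.mem_univ _, rfl⟩, rfl⟩
  obtain ⟨ys, hlen, hyp, hcm, hcong, hreg⟩ :=
    exists_regular p h hh h le_rfl S.toList hSc fun g hg => hGp g (hSG (Finset.mem_toList.1 hg))
  let I := Ideal.ofList ys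
  haveI : LocCoh.IsCohenMacaulayRing (T ⧸ I) := hcm
  have hIp : I ≤ p := Ideal.span_le.2 fun y hy => hyp y hy
  let rest := (G \ S).toList
  let ts := ys ++ rest
  have hrest : rest.length ≤ 1 := by
    have h3 : S.card = h := by rw [← Finset.length_toList, hSc]
    have h4 := Finset.card_sdiff_add_card_eq_card hSG
    rw [hh] at hgen
    have h5 : p.spanFinrank ≤ h + 1 := by exact_mod_cast hgen
    simp only [rest, Finset.length_toList]
    omega
  have htsp : ∀ x ∈ ts, x ∈ p := fun x hx => by
    rcases List.mem_append.1 hx with hx | hx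
    · exact hyp x hx
    · exact hGp x (Finset.mem_sdiff.1 (Finset.mem_toList.1 hx)).1
  have hS : ∀ g ∈ S, g ∈ I ⊔ p ^ 2 := fun g hg => by
    obtain ⟨k, hk, rfl⟩ := List.getElem_of_mem (Finset.mem_toList.2 hg)
    have h1 : ys[k]'(by omega) ∈ I := Ideal.subset_span (List.getElem_mem _)
    have h2 := hcong k (by omega) hk
    have h3 : S.toList[k] = ys[k]'(by omega) - (ys[k]'(by omega) - S.toList[k]) := by abel
    rw [h3]
    exact sub_mem (Ideal.mem_sup_left h1) (Ideal.mem_sup_right h2)
  have hts : Ideal.ofList ts = p := by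
    refine le_antisymm (Ideal.span_le.2 fun x hx => htsp x hx) ?_
    refine Submodule.le_of_le_smul_of_le_jacobson_bot (I := maximalIdeal T) (IsNoetherian.noetherian p)
      (IsLocalRing.maximalIdeal_le_jacobson ⊥) ?_
    refine le_trans ?_ (sup_le_sup (le_refl (Ideal.ofList ts)) (show p ^ 2 ≤ maximalIdeal T • p by
      rw [sq, smul_eq_mul]; exact Ideal.mul_mono_left (IsLocalRing.le_maximalIdeal (Ideal.IsPrime.ne_top ‹_›))))
    conv_lhs => rw [← hGs]
    refine Ideal.span_le.2 fun g hg => ?_
    by_cases hgS : g ∈ S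
    · have h7 : I ⊔ p ^ 2 ≤ Ideal.ofList ts ⊔ p ^ 2 :=
        sup_le_sup (Ideal.span_mono fun x hx => List.mem_append_left _ hx) le_rfl
      exact h7 (hS g hgS)
    · exact Ideal.mem_sup_left (Ideal.subset_span (List.mem_append_right _
        (Finset.mem_toList.2 (Finset.mem_sdiff.2 ⟨hg, hgS⟩))))
  have hIloc : p.map φ ≤ I.map φ := by
    rw [hm]
    refine Submodule.le_of_le_smul_of_le_jacobson_bot (I := maximalIdeal L) (IsNoetherian.noetherian _)
      (IsLocalRing.maximalIdeal_le_jacobson ⊥) ?_
    refine hSsp.trans ((Ideal.map_mono (Ideal.span_le.2 hS)).trans ?_)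
    rw [Ideal.map_sup, Ideal.map_pow, hm, sq, smul_eq_mul]
  refine ⟨ts, hts, fun i => ?_, fun i k hk hik => ?_⟩
  · intro hmem
    have hlt : ts.length ≤ p.spanFinrank := by
      have h3 : S.card = h := by rw [← Finset.length_toList, hSc]
      have h4 := Finset.card_sdiff_add_card_eq_card hSG
      simp only [ts, rest, List.length_append, Finset.length_toList, hlen]
      omega
    let s : Finset T := (Finset.univ.erase i).image fun j => ts[j]
    have hs : Ideal.span (s : Set T) = p := by
      refine le_antisymm (Ideal.span_le.2 fun x hx => ?_) ?_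
      · obtain ⟨j, -, rfl⟩ := Finset.mem_image.1 hx
        exact htsp _ (List.getElem_mem _)
      · conv_lhs => rw [← hts]
        refine Ideal.span_le.2 fun x hx => ?_
        obtain ⟨j, hj, rfl⟩ := List.getElem_of_mem hx
        by_cases hji : (⟨j, hj⟩ : Fin ts.length) = i
        · subst hji
          refine Ideal.span_mono ?_ hmem
          rintro _ ⟨⟨l, hl⟩, rfl⟩
          exact Finset.mem_image.2 ⟨l, Finset.mem_erase.2 ⟨hl, Finset.mem_univ _⟩, rfl⟩
        · exact Ideal.subset_span (Finset.mem_image.2 ⟨⟨j, hj⟩, Finset.mem_erase.2 ⟨hji, Finset.mem_univ _⟩, rfl⟩)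
    have hle : p.spanFinrank ≤ s.card := by
      conv_lhs => rw [← hs]
      exact (Submodule.spanFinrank_span_le_ncard_of_finite s.finite_toSet).trans (Set.ncard_coe_finset _).le
    have h6 := hle.trans (Finset.card_image_le.trans (Finset.card_erase_of_mem (Finset.mem_univ i)).le)
    rw [Finset.card_univ, Fintype.card_fin] at h6
    have := i.2
    omega
  · simp only [ts, List.length_append, hlen] at hk
    ext w
    rw [Submodule.mem_colon_singleton, Submodule.mem_colon_singleton, smul_eq_mul, smul_eq_mul]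
    refine ⟨fun hw => ?_, fun hw => by rw [← mul_assoc]; exact Ideal.mul_mem_right _ _ hw⟩
    by_cases hih : i < h
    · have hti : ts.take i = ys.take i := List.take_append_of_le_length (by omega)
      have hgi : ts[i]'(by simp only [ts, List.length_append]; omega) = ys[i]'(by omega) :=
        List.getElem_append_left (by omega)
      rw [hti] at hw ⊢
      rw [hgi, ← mul_assoc] at hw
      exact hreg i (by omega) _ hw
    · obtain rfl : i = h := by omega
      obtain rfl : k = i := by omega
      have hti : ts.take k = ys := by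
        rw [List.take_append_of_le_length hlen.ge, List.take_of_length_le hlen.le]
      rw [hti] at hw ⊢
      set x := ts[k]
      have hxp : x ∈ p := htsp _ (List.getElem_mem _)
      by_contra hwI
      rw [← Ideal.Quotient.eq_zero_iff_mem] at hwI
      obtain ⟨P, hP, hle⟩ := exists_le_isAssociatedPrime_of_isNoetherianRing (T ⧸ I) _ hwI
      haveI := hP.isPrime
      have hxP : Ideal.Quotient.mk I x ∈ P := hle (by
        rw [Submodule.mem_colon_singleton]
        show Ideal.Quotient.mk I x * Ideal.Quotient.mk I (w * x) ∈ (⊥ : Ideal (T ⧸ I))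
        rw [← map_mul, Ideal.mem_bot, Ideal.Quotient.eq_zero_iff_mem]
        rwa [show x * (w * x) = w * (x * x) by ring])
      let Q := P.comap (Ideal.Quotient.mk I)
      have hIQ : I ≤ Q := fun y hy => by
        show Ideal.Quotient.mk I y ∈ P
        rw [Ideal.Quotient.eq_zero_iff_mem.2 hy]; exact zero_mem _
      have hrest1 : rest = [x] := by
        have hl : rest.length = 1 := by omega
        obtain ⟨r, hr⟩ := List.length_eq_one_iff.1 hl
        rw [hr]
        simp [x, ts, hr, hlen]
      have hpQ : p ≤ Q := by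
        rw [← hts]
        refine Ideal.span_le.2 fun y hy => ?_
        rcases List.mem_append.1 hy with hy | hy
        · exact hIQ (Ideal.subset_span hy)
        · rw [hrest1, List.mem_singleton] at hy
          rw [hy]; exact hxP
      haveI hpI : (p.map (Ideal.Quotient.mk I)).IsPrime := Ideal.isPrime_map_quotientMk_of_isPrime hIp
      have hmap : p.map (Ideal.Quotient.mk I) = P := by
        by_contra hne
        have hlt : p.map (Ideal.Quotient.mk I) < P := lt_of_le_of_ne (Ideal.map_le_iff_le_comap.2 hpQ) hne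
        have h0 := LiaisonLib.height_eq_zero_of_mem_associatedPrimes (R := T ⧸ I) hP
        have h2 := Ideal.height_strict_mono_of_isPrime hlt
        rw [h0] at h2
        exact not_lt_bot h2
      have hQ : Q = p := by
        show P.comap _ = p
        rw [← hmap, Ideal.comap_map_mk hIp]
      obtain ⟨c, hc⟩ := (IsLocalization.mem_map_algebraMap_iff p.primeCompl L).1
        (hIloc (Ideal.mem_map_of_mem φ hxp))
      obtain ⟨d, hd⟩ := (IsLocalization.eq_iff_exists p.primeCompl L).1 (show φ (x * c.2) = φ c.1 by rw [map_mul]; exact hc)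
      have hkill : (d : T) * c.2 ∈ Q := by
        show Ideal.Quotient.mk I _ ∈ P
        refine hle ?_
        rw [Submodule.mem_colon_singleton]
        show Ideal.Quotient.mk I _ * Ideal.Quotient.mk I (w * x) ∈ (⊥ : Ideal (T ⧸ I))
        rw [← map_mul, Ideal.mem_bot, Ideal.Quotient.eq_zero_iff_mem,
          show (d : T) * c.2 * (w * x) = w * ((d : T) * (x * c.2)) by ring, hd]
        exact Ideal.mul_mem_left _ _ (Ideal.mul_mem_left _ _ c.1.2)
      rw [hQ] at hkill
      exact (Ideal.IsPrime.mem_or_mem ‹_› hkill).elim d.2 c.2.2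

end Groth.Agent.DSeqLib
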